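import Groth.Agent.H23.StalkIdeal
import Mathlib.AlgebraicGeometry.Morphisms.Flat
import Mathlib.AlgebraicGeometry.ResidueField
import Mathlib.AlgebraicGeometry.IdealSheaf.Functorial
import Mathlib.RingTheory.Flat.Basic
import Mathlib.LinearAlgebra.TensorProduct.Pi
import Mathlib.RingTheory.Ideal.MinimalPrime.Noetherian

/-!
Containment of ideal sheaves can be tested on fibres when the smaller subscheme is flat over a reduced
Noetherian base.
-/

set_option backward.isDefEq.respectTransparency false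
set_option backward.isDefEq.respectTransparency.types false

universe u

open CategoryTheory Limits AlgebraicGeometry TopologicalSpace TensorProduct

namespace Groth.Agent.FibLe16

/-- A flat algebra over a ring injecting into a finite product of algebras injects into the product of
the base changes. -/
theorem eq_zero_of_forall_tensor {A B : Type u} [CommRing A] [CommRing B] [Algebra A B] [Module.Flat A B]
    {ι : Type u} [Finite ι] (K : ι → Type u) [∀ i, CommRing (K i)] [∀ i, Algebra A (K i)]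
    (hinj : ∀ a : A, (∀ i, algebraMap A (K i) a = 0) → a = 0) (s : B)
    (hs : ∀ i, s ⊗ₜ[A] (1 : K i) = 0) : s = 0 := by
  classical
  haveI := Fintype.ofFinite ι
  let φ : A →ₗ[A] (∀ i, K i) := LinearMap.pi fun i => Algebra.linearMap A (K i)
  have hφ : Function.Injective φ := (injective_iff_map_eq_zero _).2 fun a ha => hinj a fun i => congrFun ha i
  have h1 : LinearMap.lTensor B φ (s ⊗ₜ[A] (1 : A)) = 0 := by
    apply (TensorProduct.piRight A A B K).injective
    rw [map_zero, LinearMap.lTensor_tmul, TensorProduct.piRight_apply]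
    funext i
    simp only [TensorProduct.piRightHom_tmul, φ, LinearMap.pi_apply, Algebra.linearMap_apply, map_one]
    exact hs i
  have h2 := Module.Flat.lTensor_preserves_injective_linearMap φ hφ (h1.trans (map_zero _).symm)
  simpa using congrArg (TensorProduct.rid A B) h2

/-- The section of `D` dies on the tensor product with the residue field, provided it dies on the fibre. -/
theorem le_of_fibre {𝒞 T : Scheme.{u}} [IsLocallyNoetherian T] [AlgebraicGeometry.IsReduced T]
    (π : 𝒞 ⟶ T) (D D' : 𝒞.IdealSheafData) (hflat : Flat (D'.subschemeι ≫ π))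
    (hfib : ∀ t : ↥T, D.comap (pullback.fst π (T.fromSpecResidueField t)) ≤
      D'.comap (pullback.fst π (T.fromSpecResidueField t))) :
    D ≤ D' := by
  suffices key : ∀ (U : T.affineOpens) (V : 𝒞.affineOpens), V.1 ≤ π ⁻¹ᵁ U.1 → D.ideal V ≤ D'.ideal V by
    intro W
    refine CDivEq.le_of_stk D D' W fun x hx => ?_
    obtain ⟨_, ⟨U, hU, rfl⟩, hxU, -⟩ :=
      T.isBasis_affineOpens.exists_subset_of_mem_open (Set.mem_univ (π x)) isOpen_univ
    obtain ⟨_, ⟨V, hV, rfl⟩, hxV, hVU⟩ :=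
      𝒞.isBasis_affineOpens.exists_subset_of_mem_open (a := x) (u := ((π ⁻¹ᵁ U : 𝒞.Opens) : Set 𝒞))
        hxU (π ⁻¹ᵁ U).2
    rw [← H23.StalkIdeal.sI_eq, ← H23.StalkIdeal.sI_eq, H23.StalkIdeal.sI_eq D ⟨V, hV⟩ hxV,
      H23.StalkIdeal.sI_eq D' ⟨V, hV⟩ hxV]
    exact Ideal.map_mono (key ⟨U, hU⟩ ⟨V, hV⟩ hVU)
  intro U V hVU g hg
  let Z := D'.subscheme
  let i := D'.subschemeι
  let V' : Z.Opens := i ⁻¹ᵁ V.1
  have hV' : IsAffineOpen V' := V.2.preimage i
  have hV'U : V' ≤ (i ≫ π) ⁻¹ᵁ U.1 := fun z hz => hVU hz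
  let α := (i ≫ π).appLE U.1 V' hV'U
  have hα : α.hom.Flat := (i ≫ π).flat_appLE U.2 hV' _
  letI := α.hom.toAlgebra
  haveI : Module.Flat Γ(T, U.1) Γ(Z, V') := hα
  haveI : IsNoetherianRing Γ(T, U.1) := IsLocallyNoetherian.component_noetherian U
  haveI : Finite (minimalPrimes Γ(T, U.1)) := (minimalPrimes.finite_of_isNoetherianRing _).to_subtype
  let pt : minimalPrimes Γ(T, U.1) → T := fun p => U.2.fromSpec ⟨p.1, p.2.1.1⟩
  have hpt : ∀ p, pt p ∈ U.1 := fun p => by
    rw [← SetLike.mem_coe, ← U.2.range_fromSpec]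
    exact Set.mem_range_self _
  let κ : ∀ p, Γ(T, U.1) ⟶ T.residueField (pt p) := fun p =>
    T.presheaf.germ U.1 (pt p) (hpt p) ≫ T.residue (pt p)
  letI : ∀ p, Algebra Γ(T, U.1) (T.residueField (pt p)) := fun p => (κ p).hom.toAlgebra
  rw [← D'.ker_subschemeι_app V, RingHom.mem_ker]
  refine eq_zero_of_forall_tensor (A := Γ(T, U.1)) (B := Γ(Z, V')) (fun p => T.residueField (pt p)) (fun a ha => ?_) _ fun p => ?_
  · have hnil : a ∈ sInf (minimalPrimes Γ(T, U.1)) := by
      refine Ideal.mem_sInf.2 fun {q} hq => ?_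
      have h0 : T.residue (pt ⟨q, hq⟩) (T.presheaf.germ U.1 _ (hpt ⟨q, hq⟩) a) = 0 := ha ⟨q, hq⟩
      have hnu : pt ⟨q, hq⟩ ∉ T.basicOpen a := fun hmem =>
        (((Scheme.mem_basicOpen _ _ _ (hpt ⟨q, hq⟩)).1 hmem).map (T.residue (pt ⟨q, hq⟩)).hom).ne_zero h0
      by_contra haq
      refine hnu ?_
      have hmem : (⟨q, hq.1.1⟩ : PrimeSpectrum Γ(T, U.1)) ∈ U.2.fromSpec ⁻¹ᵁ T.basicOpen a := by
        rw [U.2.fromSpec_preimage_basicOpen]
        exact haq
      exact hmem
    have : IsNilpotent a := by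
      rw [← mem_nilradical]
      show a ∈ Ideal.radical ⊥
      rw [← Ideal.sInf_minimalPrimes]
      exact hnil
    exact this.eq_zero
  let C := CommRingCat.of (Γ(Z, V') ⊗[Γ(T, U.1)] T.residueField (pt p))
  let i₁ : Γ(Z, V') ⟶ C := CommRingCat.ofHom (Algebra.TensorProduct.includeLeftRingHom (R := Γ(T, U.1)) (A := Γ(Z, V')) (B := T.residueField (pt p)))
  let i₂ : T.residueField (pt p) ⟶ C :=
    CommRingCat.ofHom (Algebra.TensorProduct.includeRight (R := Γ(T, U.1)) (A := Γ(Z, V')) (B := T.residueField (pt p))).toRingHom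
  have hsq : α ≫ i₁ = κ p ≫ i₂ := by
    refine CommRingCat.hom_ext (RingHom.ext fun a => ?_)
    show algebraMap Γ(T, U.1) Γ(Z, V') a ⊗ₜ[Γ(T, U.1)] (1 : T.residueField (pt p)) =
      (1 : Γ(Z, V')) ⊗ₜ[Γ(T, U.1)] algebraMap Γ(T, U.1) (T.residueField (pt p)) a
    rw [Algebra.algebraMap_eq_smul_one, Algebra.algebraMap_eq_smul_one, TensorProduct.smul_tmul]
  let m : Spec C ⟶ Z := Spec.map i₁ ≫ hV'.fromSpec
  have hm : (m ≫ i) ≫ π = Spec.map i₂ ≫ T.fromSpecResidueField (pt p) := by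
    rw [Category.assoc, Category.assoc, ← IsAffineOpen.SpecMap_appLE_fromSpec (i ≫ π) U.2 hV' hV'U,
      Scheme.fromSpecResidueField, ← U.2.fromSpecStalk_eq_fromSpecStalk (hpt p), IsAffineOpen.fromSpecStalk]
    simp only [← Category.assoc, ← Spec.map_comp]
    rw [show (i ≫ π).appLE U.1 V' hV'U ≫ i₁ = κ p ≫ i₂ from hsq, Category.assoc]
  have hfac := pullback.lift_fst (f := π) (g := T.fromSpecResidueField (pt p)) (m ≫ i) (Spec.map i₂) hm
  have hD' : D'.comap (m ≫ i) = ⊥ := by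
    have : D'.comap i = ⊥ := by
      rw [eq_bot_iff, ← Scheme.IdealSheafData.le_map_iff_comap_le, Scheme.IdealSheafData.map_bot,
        Scheme.IdealSheafData.ker_subschemeι]
    rw [Scheme.IdealSheafData.comap_comp, this, Scheme.IdealSheafData.comap_bot]
  have hD : D ≤ (m ≫ i).ker := by
    rw [← Scheme.IdealSheafData.map_bot, Scheme.IdealSheafData.le_map_iff_comap_le, ← hD', ← hfac,
      Scheme.IdealSheafData.comap_comp, Scheme.IdealSheafData.comap_comp]
    exact Scheme.IdealSheafData.comap_mono _ (hfib (pt p))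
  have h0 : (m ≫ i).app V.1 g = 0 := Scheme.Hom.ideal_ker_le _ V (hD V hg)
  have htop : (⊤ : (Spec C).Opens) ≤ m ⁻¹ᵁ V' := fun z _ => by
    show hV'.fromSpec (Spec.map i₁ z) ∈ V'
    rw [← SetLike.mem_coe, ← hV'.range_fromSpec]
    exact Set.mem_range_self _
  have hval : m.appLE V' ⊤ htop ≫ (Scheme.ΓSpecIso C).hom = i₁ := by
    have hw : (Spec.map i₁) ⁻¹ᵁ (⊤ : (Spec Γ(Z, V')).Opens) = ⊤ := rfl
    rw [← Scheme.Hom.appLE_comp_appLE (Spec.map i₁) hV'.fromSpec V' ⊤ ⊤ hV'.fromSpec_preimage_self.ge hw.ge,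
      Category.assoc]
    have e1 : (Spec.map i₁).appLE ⊤ ⊤ hw.ge = (Spec.map i₁).appTop := Scheme.Hom.appLE_eq_app _
    rw [e1, Scheme.ΓSpecIso_naturality]
    have e2 : hV'.fromSpec.appLE V' ⊤ hV'.fromSpec_preimage_self.ge ≫ (Scheme.ΓSpecIso Γ(Z, V')).hom = 𝟙 _ := by
      rw [Scheme.Hom.appLE, hV'.fromSpec_app_self]
      simp only [Category.assoc, ← Functor.map_comp_assoc]
      erw [(Spec Γ(Z, V')).presheaf.map_id]
      simp
    rw [← Category.assoc, e2, Category.id_comp]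
  show i₁ (i.app V.1 g) = 0
  rw [← hval, CommRingCat.comp_apply, Scheme.Hom.appLE, CommRingCat.comp_apply]
  have h0' : m.app V' (i.app V.1 g) = 0 := by
    rw [Scheme.Hom.comp_app, CommRingCat.comp_apply] at h0
    exact h0
  rw [h0', map_zero, map_zero]

end Groth.Agent.FibLe16
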